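import Mathlib
import Groth.Prelude.Def_DCoh4
import Groth.Prelude.Def_CxOX
import Groth.Prelude.Def_DerSch
import Groth.Agent.Lib.Helper5.StalkTen.TildeStalk
import Groth.Agent.Lib.Helper5.KProj.LBC
import Groth.Agent.Lib.Helper5.RelTor.Basic
import Groth.Agent.Lib.Helper5.RHomQC.PerfO
import Groth.Agent.Lib.Lead.FLF1
import Groth.Agent.Lib.Lead.FLF2
import Groth.Agent.Lib.Helper3.PerfDesc

/-!
# Spreading out a perfect complex over a local ring of a scheme (helper5)

For an open immersion `j : Spec R ⟶ X` and `x ∈ j(Spec R)`, the functor `M ↦ (j_! M^~)_x` is the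
base change along `R → O_{X,x}` (by uniqueness of left adjoints: its right adjoint is
`N ↦ Γ(Spec R, Sky_x(N)|_{Spec R}) = N`).  With the descent of perfect complexes along filtered
colimits of rings this spreads a perfect complex over `O_{X,x}` out to a complex of `O_X`-modules
which is strictly perfect over an affine open neighbourhood of `x`.
-/
set_option autoImplicit false
set_option linter.unusedSectionVars false
set_option linter.unusedVariables false
universe u
open CategoryTheory CategoryTheory.Limits Opposite TopologicalSpace AlgebraicGeometry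
  HomologicalComplex
open Groth.Agent.Lib.Helper5.Misc.StalkTensor Groth.Agent.Lib.Helper5.Sky
  Groth.Agent.Lib.Helper5.StalkAdj Groth.Agent.Lib.Helper5.StalkTot
  Groth.Agent.Lib.Helper5.TildeStalk Groth.Agent.Lib.Helper5.KProj

namespace Groth.Agent.Lib.Helper5.SpreadPerf

section Unit
variable {U X : Scheme.{u}} (j : U ⟶ X) [IsOpenImmersion j]

/-- the unit of `j_! ⊣ j^*` is an isomorphism, for every open immersion `j` -/
instance isIso_unit_extZero : IsIso (CxOX.extZeroAdj j).unit := by
  let t : CategoryTheory.Adjunction.Triple (CxOX.extZero j) (Scheme.Modules.restrictFunctor j)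
      (Scheme.Modules.pushforward j) :=
    ⟨CxOX.extZeroAdj j, Scheme.Modules.restrictAdjunction j⟩
  exact t.isIso_unit_iff_isIso_counit.2 inferInstance

/-- a module whose restriction along `j` is finite locally free is finite locally free over the
image of `j` -/
theorem isFinLocFree_restrict_opensRange (G : X.Modules)
    (h : FlatMod.IsFinLocFree (G.restrict j)) :
    FlatMod.IsFinLocFree (G.restrict j.opensRange.ι) := by
  apply Groth.Agent.Lead.FLF.isFinLocFree_of_charts
  intro y
  refine ⟨U, j.isoOpensRange.hom, inferInstance, ?_, ?_⟩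
  · have h0 : (j.isoOpensRange.hom).opensRange = ⊤ := Scheme.Hom.opensRange_of_isIso _
    exact h0.ge (show y ∈ (⊤ : (j.opensRange : Scheme.{u}).Opens) from trivial)
  · exact Groth.Agent.Lead.FLF.isFinLocFree_of_iso
      ((Scheme.Modules.restrictFunctorCongr (j.isoOpensRange_hom_ι).symm).app G ≪≫
        (Scheme.Modules.restrictFunctorComp j.isoOpensRange.hom j.opensRange.ι).app G) h

end Unit

section Chart

variable (R : CommRingCat.{u}) {X : Scheme.{u}} (j : Spec (CommRingCat.of R) ⟶ X)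
  [IsOpenImmersion j] (x : X) (hx : x ∈ j ''ᵁ ⊤)

/-- the ring map `R → O_{X,x}` through which `R` acts on the stalks at `x` -/
noncomputable def gmap : R →+* X.presheaf.stalk x :=
  ((Scheme.ΓSpecIso (CommRingCat.of R)).inv ≫ (Spec (CommRingCat.of R)).presheaf.map (eTop R) ≫
    (j.appIso ⊤).inv ≫ X.presheaf.germ (j ''ᵁ ⊤) x hx).hom

/-- sections over `Spec R` of the restriction of a skyscraper module -/
noncomputable def skyGammaEquiv (N : ModuleCat.{u} (X.presheaf.stalk x)) :
    (ModuleCat.restrictScalars (gmap R j x hx)).obj N ≃ₗ[R]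
      (moduleSpecΓFunctor (R := R)).obj
        ((Scheme.Modules.restrictFunctor j).obj ((skyS X x).obj N)) where
  toFun n := (fun _ => n : SkyT x N (j ''ᵁ ⊤))
  invFun s := (s : SkyT x N (j ''ᵁ ⊤)) ⟨hx⟩
  map_add' _ _ := rfl
  map_smul' _ _ := rfl
  left_inv _ := rfl
  right_inv _ := rfl

/-- the right adjoint of `M ↦ (j_! M^~)_x` -/
noncomputable def skyGammaIso :
    (skyS X x ⋙ Scheme.Modules.restrictFunctor j) ⋙ moduleSpecΓFunctor (R := R) ≅
      ModuleCat.restrictScalars (gmap R j x hx) :=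
  (NatIso.ofComponents (fun N => (skyGammaEquiv R j x hx N).toModuleIso) (fun f => rfl)).symm

/-- `M ↦ (j_! M^~)_x` is left adjoint to `N ↦ Γ(Spec R, Sky_x N)` -/
noncomputable def adjTS :
    tilde.functor R ⋙ (CxOX.extZero j ⋙ stalkSh X x) ⊣
      (skyS X x ⋙ Scheme.Modules.restrictFunctor j) ⋙ moduleSpecΓFunctor (R := R) :=
  (tilde.adjunction (R := R)).comp ((CxOX.extZeroAdj j).comp (adjS X x))

/-- **the stalk of `j_! M^~` at `x` is the base change of `M`** -/
noncomputable def shriekTildeStalkIso :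
    tilde.functor R ⋙ (CxOX.extZero j ⋙ stalkSh X x) ≅
      ModuleCat.extendScalars.{u, u, u} (gmap R j x hx) :=
  ((adjTS R j x).ofNatIsoRight (skyGammaIso R j x hx)).leftAdjointUniq
    (ModuleCat.extendRestrictScalarsAdj (gmap R j x hx))

/-- the complex `j_! K^~` -/
noncomputable def Fcx (K : DRing.Cx R) : CochainComplex X.Modules ℤ :=
  ((tilde.functor R ⋙ CxOX.extZero j).mapHomologicalComplex (ComplexShape.up ℤ)).obj K

/-- the complex of stalks of `j_! K^~` -/
noncomputable def stalkCxFcxIso (K : DRing.Cx R) :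
    stalkCx X x (Fcx R j K) ≅ (bcCx (gmap R j x hx)).obj K :=
  HomologicalComplex.Hom.isoOfComponents
    (fun i => (shriekTildeStalkIso R j x hx).app (K.X i))
    (fun i k _ => ((shriekTildeStalkIso R j x hx).hom.naturality (K.d i k)).symm)

/-- `j_! K^~` is strictly perfect over the image of `j` if `K` is a bounded complex of finite
projective modules -/
theorem isStrictlyPerfect_Fcx (K : DRing.Cx R) (a b : ℤ) (h1 : DRing.VanishesOutside K a b)
    (h2 : DRing.TermwiseFiniteProjective K) :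
    DCoh.IsStrictlyPerfect ((DCoh.restrictCx j.opensRange).obj (Fcx R j K)) := by
  refine ⟨⟨a, b, fun i hi => ?_⟩, fun i => ?_⟩
  · exact (Scheme.Modules.restrictFunctor j.opensRange.ι).map_isZero
      ((CxOX.extZero j).map_isZero ((tilde.functor R).map_isZero (h1 i hi)))
  · obtain ⟨f1, f2⟩ := h2 i
    apply isFinLocFree_restrict_opensRange j ((CxOX.extZero j).obj ((tilde.functor R).obj (K.X i)))
    refine Groth.Agent.Lead.FLF.isFinLocFree_of_iso
      (asIso ((CxOX.extZeroAdj j).unit.app ((tilde.functor R).obj (K.X i)))) ?_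
    exact Groth.Agent.Lead.FLF.tilde_isFinLocFree_of_projective (K.X i)

end Chart

section Main

variable {X : Scheme.{u}}

/-- spreading out from a chart -/
theorem exists_of_chart (R : CommRingCat.{u}) (j : Spec (CommRingCat.of R) ⟶ X)
    [IsOpenImmersion j] (x : X) (hx : x ∈ j ''ᵁ ⊤) (W₀ : X.Opens) (hle : j ''ᵁ ⊤ ≤ W₀)
    (hxW₀ : x ∈ W₀) (K₀ : DRing.Cx Γ(X, W₀)) (a b : ℤ) (g1 : DRing.VanishesOutside K₀ a b)
    (g2 : DRing.TermwiseFiniteProjective K₀) :
    ∃ F' : CochainComplex X.Modules ℤ,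
      DCoh.IsStrictlyPerfect ((DCoh.restrictCx j.opensRange).obj F') ∧
      Nonempty (stalkCx X x F' ≅ (bcCx (X.presheaf.germ W₀ x hxW₀).hom).obj K₀) := by
  let φ : Γ(X, W₀) ⟶ CommRingCat.of R :=
    X.presheaf.map (homOfLE hle).op ≫ (j.appIso ⊤).hom ≫
      (Scheme.ΓSpecIso (CommRingCat.of R)).hom
  have h0 : eTop R = 𝟙 _ := Subsingleton.elim _ _
  have key : φ ≫ ((Scheme.ΓSpecIso (CommRingCat.of R)).inv ≫
      (Spec (CommRingCat.of R)).presheaf.map (eTop R) ≫
      (j.appIso ⊤).inv ≫ X.presheaf.germ (j ''ᵁ ⊤) x hx) = X.presheaf.germ W₀ x hxW₀ := by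
    rw [h0, CategoryTheory.Functor.map_id, Category.id_comp]
    simp only [φ, Category.assoc, Iso.hom_inv_id_assoc]
    exact X.presheaf.germ_res (homOfLE hle) x hx
  have hφ : (gmap R j x hx).comp φ.hom = (X.presheaf.germ W₀ x hxW₀).hom := by
    ext r
    exact congrArg (fun f : Γ(X, W₀) ⟶ X.presheaf.stalk x => f.hom r) key
  refine ⟨Fcx R j ((bcCx φ.hom).obj K₀),
    isStrictlyPerfect_Fcx R j ((bcCx φ.hom).obj K₀) a b (vanishesOutside_bcCx φ.hom K₀ a b g1)
      (termwiseFiniteProjective_bcCx φ.hom K₀ g2), ⟨?_⟩⟩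
  exact stalkCxFcxIso R j x hx ((bcCx φ.hom).obj K₀) ≪≫
    ((Functor.mapHomologicalComplexCompIso
      (ModuleCat.extendScalarsComp φ.hom (gmap R j x hx)).symm (ComplexShape.up ℤ)).app K₀) ≪≫
    eqToIso (by rw [hφ])

/-- **spreading out**: a bounded complex of finite projective modules over `O_{X,x}` is the complex
of stalks of a complex of `O_X`-modules which is strictly perfect over an open neighbourhood
of `x` -/
theorem exists_spread (x : X) (E : DRing.Cx (X.presheaf.stalk x)) (a b : ℤ)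
    (h1 : DRing.VanishesOutside E a b) (h2 : DRing.TermwiseFiniteProjective E) :
    ∃ (U : X.Opens) (F' : CochainComplex X.Modules ℤ), x ∈ U ∧
      DCoh.IsStrictlyPerfect ((DCoh.restrictCx U).obj F') ∧ Nonempty (stalkCx X x F' ≅ E) := by
  let F : (OpenNhds x)ᵒᵖ ⥤ CommRingCat.{u} := (OpenNhds.inclusion x).op ⋙ X.presheaf
  obtain ⟨jW, Kj, g1, g2, ⟨eE⟩⟩ := Groth.Agent.Helper3.PerfDesc.descend_perfect_cx F
    (colimit.cocone F) (colimit.isColimit F) E a b h1 h2
  obtain ⟨W, hW, hxW, hWW₀⟩ :=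
    TopologicalSpace.Opens.isBasis_iff_nbhd.mp X.isBasis_affineOpens jW.unop.2
  let R : CommRingCat.{u} := Γ(X, W)
  let j : Spec (CommRingCat.of R) ⟶ X := IsAffineOpen.fromSpec hW
  haveI : IsOpenImmersion j := inferInstanceAs (IsOpenImmersion (IsAffineOpen.fromSpec hW))
  have himg : j ''ᵁ ⊤ = W := by
    rw [Scheme.Hom.image_top_eq_opensRange]
    exact IsAffineOpen.opensRange_fromSpec hW
  have hx : x ∈ j ''ᵁ ⊤ := himg ▸ hxW
  obtain ⟨F', hF', ⟨e⟩⟩ := exists_of_chart R j x hx jW.unop.1 (himg ▸ hWW₀) jW.unop.2 Kj a b g1 g2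
  refine ⟨j.opensRange, F', ?_, hF', ⟨e ≪≫ eE⟩⟩
  rw [← Scheme.Hom.image_top_eq_opensRange]
  exact hx

end Main

end Groth.Agent.Lib.Helper5.SpreadPerf
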